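import Groth.Prelude.Def_W4c2seshadriposJets
import Groth.Agent.Synt29.CBPairing
import Groth.Agent.Synt29.SerreSocle
import Groth.Agent.PointBlow.Basic
import Groth.Agent.GrLib8.DHM.Main
import Groth.Agent.Lib.CurveSection
import Groth.Agent.SmoothReg.Scheme
import Groth.Agent.GrpSchLib.SmoothRegular
import Groth.Agent.HilbPoly.Poly
import Groth.Agent.Lib.NumTrivVanish
import Groth.Agent.Lib.SurfPairing
import Groth.Agent.Lib.DivisorExt
import Groth.Agent.NormalLib.Finite
import Groth.Agent.CycCov7.Inverse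
import Groth.Agent.S11753
import Groth.Agent.S8163
import Groth.Agent.S0047

/-!
# Counting conditions imposed by fat points on a surface
-/

set_option autoImplicit false
set_option linter.style.haveILetI false
set_option linter.unusedSectionVars false
set_option backward.isDefEq.respectTransparency false
set_option backward.isDefEq.respectTransparency.types false
set_option maxHeartbeats 1000000

universe u

open CategoryTheory CategoryTheory.Limits AlgebraicGeometry TopologicalSpace
open Groth.Agent Groth.Agent.H23 Groth.Agent.H23.PicMul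
open Groth.Agent.PnCoh.Finite (mapLin deltaLin)

attribute [local instance] H23.PicMul.clMonoid

noncomputable section

namespace Groth.Agent.GrLib8.JetCount

variable {X : Scheme.{u}}

theorem mul_le_left (I J : X.IdealSheafData) : I * J ≤ I := fun U => by
  rw [Scheme.IdealSheafData.ideal_mul, Pi.mul_apply]
  exact Ideal.mul_le_left

/-- Taking the stalk as a monoid map. -/
def sIHom (x : X) : X.IdealSheafData →* Ideal (X.presheaf.stalk x) where
  toFun I := StalkIdeal.sI I x
  map_one' := by simpa only [pow_zero] using PointBlow.sI_pow (1 : X.IdealSheafData) x 0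
  map_mul' I J := PointBlow.sI_mul I J x

theorem support_pointIdeal (x : X) (hx : IsClosed ({x} : Set X)) :
    ((W4c2seshadripos.pointIdeal x hx).support : Set X) = {x} :=
  Scheme.IdealSheafData.coe_support_vanishingIdeal _

theorem sI_pointIdeal_self (x : X) (hx : IsClosed ({x} : Set X)) :
    StalkIdeal.sI (W4c2seshadripos.pointIdeal x hx) x = IsLocalRing.maximalIdeal (X.presheaf.stalk x) := by
  have hC : IsClosed ((({x} : Finset X)) : Set X) := by simpa using hx
  exact (congrArg (fun C => StalkIdeal.sI (Scheme.IdealSheafData.vanishingIdeal C) x)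
    (TopologicalSpace.Closeds.ext (show ({x} : Set X) = _ from (Finset.coe_singleton x).symm) :
      (⟨{x}, hx⟩ : Closeds X) = ⟨_, hC⟩)).trans
    (Synt29.SerreSocle.sI_vanishing ({x} : Finset X) hC (by simpa using hx) (Finset.mem_singleton_self x))

theorem sI_pointIdeal_of_ne {x y : X} (hx : IsClosed ({x} : Set X)) (h : y ≠ x) :
    StalkIdeal.sI (W4c2seshadripos.pointIdeal x hx) y = ⊤ :=
  PointBlow.sI_eq_top (by rw [support_pointIdeal]; exact h)

theorem support_tensor_left {E F : X.Modules} :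
    CohB1.support (CohB1.tensorMod E F) ⊆ CohB1.support E := by
  intro x hx
  by_contra h
  haveI hs : Subsingleton (E.presheaf.stalk x) := not_not.1 h
  haveI hT : Subsingleton (TensorProduct (X.presheaf.stalk x) (E.presheaf.stalk x) (F.presheaf.stalk x)) :=
    subsingleton_of_forall_eq 0 fun t => by
      induction t using TensorProduct.induction_on with
      | zero => rfl
      | tmul a b => rw [Subsingleton.elim a 0, TensorProduct.zero_tmul]
      | add a b ha hb => rw [ha, hb, add_zero]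
  exact hx (@Equiv.subsingleton _ _ (KFlatLib.stalkTensorIso x E F).symm.toLinearEquiv.toEquiv hT)

theorem two_mul_choose_succ_two (m : ℕ) : 2 * (((m + 1).choose 2 : ℕ) : ℤ) = ((m : ℤ) + 1) * m := by
  induction m with
  | zero => simp
  | succ n ih =>
    rw [Nat.choose_succ_succ' (n + 1) 1, Nat.choose_one_right]
    push_cast
    linarith

variable (Z : Finset X) (hZ : ∀ z ∈ Z, IsClosed ({z} : Set X)) (N : ℕ)

/-- The ideal sheaf of fat points. -/
abbrev jet : X.IdealSheafData := ⨅ z : ↥Z, (W4c2seshadripos.pointIdeal (z : X) (hZ z z.2)) ^ N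

/-- The product of the ideal sheaves of the fat points. -/
def jetProd : X.IdealSheafData := ∏ z : ↥Z, (W4c2seshadripos.pointIdeal (z : X) (hZ z z.2)) ^ N

theorem jetProd_le : jetProd Z hZ N ≤ jet Z hZ N := le_iInf fun z => by
  classical
  rw [jetProd, ← Finset.mul_prod_erase _ _ (Finset.mem_univ z)]
  exact mul_le_left _ _

theorem sI_jetProd {x : X} (z : ↥Z) (h : x = (z : X)) :
    StalkIdeal.sI (jetProd Z hZ N) x = IsLocalRing.maximalIdeal (X.presheaf.stalk x) ^ N := by
  classical
  subst h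
  show sIHom _ (∏ w : ↥Z, _) = _
  rw [map_prod, Finset.prod_eq_single z]
  · show StalkIdeal.sI (_ ^ N) _ = _
    rw [PointBlow.sI_pow, sI_pointIdeal_self]
  · intro w _ hw
    show StalkIdeal.sI (_ ^ N) _ = _
    rw [PointBlow.sI_pow, sI_pointIdeal_of_ne _ fun h => hw (Subtype.ext h.symm), ← Ideal.one_eq_top, one_pow]
  · exact fun h => absurd (Finset.mem_univ z) h

theorem sI_jet {x : X} (hx : x ∈ Z) :
    StalkIdeal.sI (jet Z hZ N) x = IsLocalRing.maximalIdeal (X.presheaf.stalk x) ^ N := by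
  refine le_antisymm ((PointBlow.sI_mono (iInf_le _ ⟨x, hx⟩) x).trans_eq ?_)
    ((sI_jetProd Z hZ N ⟨x, hx⟩ rfl).symm.trans_le (PointBlow.sI_mono (jetProd_le Z hZ N) x))
  rw [PointBlow.sI_pow, sI_pointIdeal_self]

theorem sI_jet_top {x : X} (hx : x ∉ Z) : StalkIdeal.sI (jet Z hZ N) x = ⊤ := by
  refine top_unique (le_trans ?_ (PointBlow.sI_mono (jetProd_le Z hZ N) x))
  show ⊤ ≤ sIHom x (∏ z : ↥Z, _)
  rw [map_prod, Finset.prod_eq_one, Ideal.one_eq_top]
  intro z _
  show StalkIdeal.sI (_ ^ N) x = _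
  rw [PointBlow.sI_pow, sI_pointIdeal_of_ne _ fun h : x = z => hx (h ▸ z.2), ← Ideal.one_eq_top, one_pow]

theorem support_jet_subset : ((jet Z hZ N).support : Set X) ⊆ Z := fun x hx => by
  by_contra h
  exact (PointBlow.mem_support_iff _ x).1 hx (sI_jet_top Z hZ N h)

variable (k : Type u) [Field k] [IsAlgClosed k] [X.Over (Spec (CommRingCat.of k))]
  [IsProper (X ↘ (Spec (CommRingCat.of k)))] [Smooth (X ↘ (Spec (CommRingCat.of k)))] [IrreducibleSpace X]

/-- The number of conditions imposed by a fat point on a surface. -/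
theorem finrank_loc (hdim : topologicalKrullDim X = 2) (hN : 1 ≤ N) {z : X} (hz : z ∈ Z) :
    letI := Synt29.CBPairing.locAlg k (jet Z hZ N) z
    Module.finrank k (Synt29.CBPairing.Loc (jet Z hZ N) z) = (N + 1).choose 2 := by
  letI := Synt29.CBPairing.locAlg k (jet Z hZ N) z
  letI alg : Algebra k (X.presheaf.stalk z) := (Curv2.stalkMap k X z).toAlgebra
  haveI : IsScalarTower k (X.presheaf.stalk z) (Synt29.CBPairing.Loc (jet Z hZ N) z) :=
    IsScalarTower.of_algebraMap_eq fun _ => rfl
  haveI : IsRegularLocalRing (X.presheaf.stalk z) :=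
    GrpSchLib.isRegularLocalRing_stalk_of_smooth (X ↘ Spec (CommRingCat.of k)) z
  have hd : ringKrullDim (X.presheaf.stalk z) = (2 : ℕ) :=
    (SmoothReg.ringKrullDim_stalk_closedPoint (X ↘ Spec (CommRingCat.of k)) (hZ z hz)).trans hdim
  have hlen : Module.length (X.presheaf.stalk z) (Synt29.CBPairing.Loc (jet Z hZ N) z) = ((N + 1).choose 2 : ℕ∞) := by
    rw [(Submodule.quotEquivOfEq _ _ (sI_jet Z hZ N hz)).length_eq, S8163.result _ 2 hd N hN]
    rfl
  rw [DHM.finrank_eq_length k (CurveSection.exists_stalkMap_sub_mem k (hZ z hz)) N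
    (Module.length_ne_top_iff.1 (hlen.trans_ne (ENat.natCast_ne_top _))) (fun a ha v => ?_), hlen, ENat.toNat_natCast]
  obtain ⟨r, rfl⟩ := Ideal.Quotient.mk_surjective v
  exact Ideal.Quotient.eq_zero_iff_mem.2 (Ideal.mul_mem_right r _ ((sI_jet Z hZ N hz).symm ▸ ha))

theorem eulerCharLE_quot_le (hdim : topologicalKrullDim X = 2) (hN : 1 ≤ N) :
    FGA.eulerCharLE k X (ClSub.quotMod (jet Z hZ N)) 2 ≤ (Z.card : ℤ) * ((N + 1).choose 2 : ℕ) := by
  haveI := CurveCohLib.isNoetherian_of_proper (k := k) (X := X)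
  haveI : JacobsonSpace X := LocallyOfFiniteType.jacobsonSpace (X ↘ Spec (CommRingCat.of k))
  have hfin : ((jet Z hZ N).support : Set X).Finite := Z.finite_toSet.subset (support_jet_subset Z hZ N)
  have hsub : hfin.toFinset ⊆ Z := fun x hx => support_jet_subset Z hZ N (hfin.mem_toFinset.1 hx)
  rw [(Synt29.CBPairing.euler_quot (ParShLib.isCoh_quotMod _) hfin).1,
    Finset.sum_congr rfl (g := fun _ => (((N + 1).choose 2 : ℕ) : ℤ))
      (fun z hz => congrArg Nat.cast (finrank_loc Z hZ N k hdim hN (hsub hz))),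
    Finset.sum_const, nsmul_eq_mul]
  exact mul_le_mul_of_nonneg_right (by exact_mod_cast Finset.card_le_card hsub) (Int.natCast_nonneg _)

/-- The surface Riemann--Roch count for fat points in powers of an ample module. -/
theorem nontrivial_sections (hdim : topologicalKrullDim X = 2)
    {L Linv : X.Modules} (hL : CohB1.IsAmple L) (hLinv : ClSub.IsInverseOf Linv L)
    (hsq : 4 * (Z.card : ℤ) < FGA.intNum k X 2 (fun _ : Fin 2 => Linv) (Coh.structureModule X)) :
    ∃ m₀ : ℕ, ∀ m : ℕ, m₀ ≤ m → Nontrivial (Coh.HH X (CohB1.tensorMod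
        (ClSub.idealMod (jet Z hZ (2 * m + 1))) (CohB1.tensorPow L m)) 0) := by
  haveI := CurveCohLib.isNoetherian_of_proper (k := k) (X := X)
  set O : X.Modules := Coh.structureModule X
  have hO : PicF.IsInvertible O := InvX.isInvertible_structureModule
  have hOc : Coh.IsCoh O := AmpleVan.isCoh_invertible hO
  obtain ⟨d₀, hvan⟩ := NumTrivTw.exists_vanishing (k := k) hL hOc
  have hLM : Nonempty (CohB1.tensorMod L Linv ≅ O) := PicMul.cl_eq_iff.1 (by
    rw [PicMul.cl_tensor, mul_comm, ← PicMul.cl_tensor]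
    exact PicMul.cl_eq_iff.2 hLinv)
  have hsuppO : topologicalKrullDim (CohB1.support O) ≤ (2 : ℕ) :=
    (Topology.IsInducing.subtypeVal.topologicalKrullDim_le).trans hdim.le
  let a₀ := FGA.intNum k X 2 (fun _ : Fin 0 => Linv) O
  let a₁ := FGA.intNum k X 2 (fun _ : Fin 1 => Linv) O
  refine ⟨d₀ + 2 * Z.card + 2 * a₀.natAbs + 2 * a₁.natAbs + 5, fun m hm => ?_⟩
  set J := jet Z hZ (2 * m + 1)
  set Lm : X.Modules := CohB1.tensorPow L m
  have hLm : PicF.IsInvertible Lm := PicMul.isInvertible_tensorPow hL.1 m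
  have hLmc : Coh.IsCoh Lm := AmpleVan.isCoh_invertible hLm
  haveI := AmpleVan.isEquivalence_tw hLm
  let S := ShortComplex.mk (ClSub.idealModι J) (ClSub.toSubscheme J) (kernel.condition _)
  have hS : S.ShortExact := DivisorExt.ideal_shortExact J
  let S' := S.map (AmpleVan.tw Lm)
  have hS' : S'.ShortExact := hS.map_of_exact _
  have hc₁ : Coh.IsCoh S'.X₁ := AmpleVan.isCoh_tensor (NormalLib.isCoh_idealMod J) hLmc
  have hc₂ : Coh.IsCoh S'.X₂ := AmpleVan.isCoh_tensor hOc hLmc
  have hc₃ : Coh.IsCoh S'.X₃ := AmpleVan.isCoh_tensor (ParShLib.isCoh_quotMod J) hLmc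
  have hd2 : topologicalKrullDim X ≤ ((2 : ℕ) : WithBot ℕ∞) := hdim.le
  have hadd := (HilbPoly.additive_euler k).add S' hS' hc₁ hc₂ hc₃
  -- the finite part
  have hfin : ((J.support : Set X)).Finite := Z.finite_toSet.subset (support_jet_subset Z hZ _)
  have hsuppT : CohB1.support (ClSub.quotMod J) ⊆ (Z : Set X) := fun x hx => by
    by_contra hxI
    exact hx (ParShLib.subsingleton_stalk_quotMod J fun h => hxI (support_jet_subset Z hZ _ h))
  have hsuppT' : CohB1.support S'.X₃ ⊆ CohB1.support (ClSub.quotMod J) := support_tensor_left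
  have hT0 : topologicalKrullDim (CohB1.support (ClSub.quotMod J)) ≤ ((0 : ℕ) : WithBot ℕ∞) := by
    haveI : Finite ↥(CohB1.support (ClSub.quotMod J)) := (Z.finite_toSet.subset hsuppT).to_subtype
    haveI : T1Space ↥(CohB1.support (ClSub.quotMod J)) := ⟨fun x => by
      convert (hZ x.1 (hsuppT x.2)).preimage continuous_subtype_val
      ext y
      simp [Subtype.ext_iff]⟩
    exact (topologicalKrullDim_zero_of_discreteTopology _).trans_eq Nat.cast_zero.symm
  have e₃ : Curv2.euler k X S'.X₃ ≤ (Z.card : ℤ) * ((2 * m + 2).choose 2 : ℕ) := by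
    have h1 := S11753.result k X 2 hd2 L Linv hL.1 hLM (ClSub.quotMod J) (ParShLib.isCoh_quotMod J) 0 hT0 m
    have h2 := S11753.result k X 2 hd2 L Linv hL.1 hLM (ClSub.quotMod J) (ParShLib.isCoh_quotMod J) 0 hT0 0
    simp only [zero_add, Finset.sum_range_one, Nat.choose_zero_right, Nat.cast_one, one_mul] at h1 h2
    have i1 : Curv2.euler k X S'.X₃ = Curv2.euler k X (CohB1.tensorMod (CohB1.tensorPow L m) (ClSub.quotMod J)) :=
      (HilbPoly.additive_euler k).iso _ _ (PicMul.cl_eq_iff.1 (by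
        show PicF.cl (CohB1.tensorMod _ _) = _
        rw [PicMul.cl_tensor, PicMul.cl_tensor, mul_comm]))
    have i2 : Curv2.euler k X (ClSub.quotMod J) = Curv2.euler k X (CohB1.tensorMod (CohB1.tensorPow L 0) (ClSub.quotMod J)) :=
      (HilbPoly.additive_euler k).iso _ _ (PicMul.cl_eq_iff.1 (by
        rw [PicMul.cl_tensor]; exact (one_mul _).symm))
    rw [i1, ← SurfPairing.eulerCharLE_eq k hdim.le (AmpleVan.isCoh_tensor hLmc (ParShLib.isCoh_quotMod J)).1,
      h1, ← h2, SurfPairing.eulerCharLE_eq k hdim.le (M := CohB1.tensorMod (CohB1.tensorPow L 0) (ClSub.quotMod J)) (AmpleVan.isCoh_tensor (AmpleVan.isCoh_invertible (PicMul.isInvertible_tensorPow hL.1 0)) (ParShLib.isCoh_quotMod J)).1,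
      ← i2, ← SurfPairing.eulerCharLE_eq k hdim.le (ParShLib.isCoh_quotMod J).1]
    exact eulerCharLE_quot_le Z hZ (2 * m + 1) k hdim (by omega)
  have e₂ : Curv2.euler k X S'.X₂ = a₀ + (m : ℤ) * a₁ +
      ((m + 1).choose 2 : ℕ) * FGA.intNum k X 2 (fun _ : Fin 2 => Linv) O := by
    have h1 := S11753.result k X 2 hd2 L Linv hL.1 hLM O hOc 2 hsuppO m
    simp only [Finset.sum_range_succ, Finset.sum_range_zero, zero_add, Nat.choose_zero_right, Nat.cast_one,
      one_mul, Nat.add_one_sub_one, add_zero, Nat.choose_one_right] at h1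
    rw [← h1, SurfPairing.eulerCharLE_eq k hdim.le (AmpleVan.isCoh_tensor hLmc hOc).1]
    exact (HilbPoly.additive_euler k).iso _ _ (PicMul.cl_eq_iff.1 (by
      show PicF.cl (CohB1.tensorMod _ _) = _
      rw [PicMul.cl_tensor, PicMul.cl_tensor, mul_comm]))
  have v2 : ∀ q, Subsingleton (Coh.HH X S'.X₂ (q + 1)) := fun q => by
    obtain ⟨e⟩ := PicMul.cl_eq_iff.1 (show PicF.cl (CohB1.tensorMod (CohB1.tensorMod O Lm) O) = PicF.cl S'.X₂ by
      show _ = PicF.cl (CohB1.tensorMod O Lm)
      rw [PicMul.cl_tensor]; exact mul_one _)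
    haveI := hvan m (by omega) O (Pic13Lib.NumTriv.isNT_one k) q
    exact QCoh.subsingleton_HH_of_iso e (q + 1) inferInstance
  have v3 : Subsingleton (Coh.HH X S'.X₃ 1) := S0047.result X _ hc₃
    (fun x hx => hZ x (hsuppT (hsuppT' hx))) 1 Nat.one_pos
  have v1 : Subsingleton (Coh.HH X S'.X₁ 2) := ⟨fun x y => by
    haveI := v2 1
    have h : ∀ z : Coh.HH X S'.X₁ 2, z = 0 := fun z => by
      have hz : z ∈ LinearMap.ker (mapLin k S'.f 2) := LinearMap.mem_ker.2 (Subsingleton.elim _ _)
      rw [CurveCohLib.ker_mapLin_f_succ k hS' 1] at hz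
      obtain ⟨w, rfl⟩ := hz
      haveI := v3
      rw [Subsingleton.elim w 0, map_zero]
    rw [h x, h y]⟩
  have e₁ : Curv2.euler k X S'.X₁ ≤ (Module.finrank k (Coh.HH X S'.X₁ 0) : ℤ) := by
    rw [← SurfPairing.eulerCharLE_eq k hdim.le hc₁.1]
    haveI := v1
    have h2 : Module.finrank k (Coh.HH X S'.X₁ 2) = 0 := Module.finrank_zero_of_subsingleton
    simp only [FGA.eulerCharLE, Finset.sum_range_succ, Finset.sum_range_zero, h2]
    push_cast
    linarith [Int.natCast_nonneg (Module.finrank k (Coh.HH X S'.X₁ 1))]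
  have hpos : 0 < Module.finrank k (Coh.HH X S'.X₁ 0) := by
    have hc := two_mul_choose_succ_two m
    have hc' : 2 * (((2 * m + 2).choose 2 : ℕ) : ℤ) = (2 * (m : ℤ) + 2) * (2 * m + 1) := by
      have := two_mul_choose_succ_two (2 * m + 1)
      push_cast at this
      linarith
    rw [e₂] at hadd
    have hq : Curv2.euler k X S'.X₁ = a₀ + (m : ℤ) * a₁ +
        ((m + 1).choose 2 : ℕ) * FGA.intNum k X 2 (fun _ : Fin 2 => Linv) O - Curv2.euler k X S'.X₃ := by
      linarith
    have hmz : (d₀ : ℤ) + 2 * Z.card + 2 * a₀.natAbs + 2 * a₁.natAbs + 5 ≤ m := by exact_mod_cast hm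
    have b0 : -(a₀.natAbs : ℤ) ≤ a₀ := by omega
    have b1 : -(a₁.natAbs : ℤ) ≤ a₁ := by omega
    have b2 : 4 * (Z.card : ℤ) + 1 ≤ FGA.intNum k X 2 (fun _ : Fin 2 => Linv) O := hsq
    have hge : 0 < (Module.finrank k (Coh.HH X S'.X₁ 0) : ℤ) := by
      nlinarith [Int.natCast_nonneg ((m + 1).choose 2), Int.natCast_nonneg a₀.natAbs, Int.natCast_nonneg a₁.natAbs,
        Int.natCast_nonneg d₀, Int.natCast_nonneg Z.card,
        mul_le_mul_of_nonneg_left b2 (Int.natCast_nonneg ((m + 1).choose 2)),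
        mul_le_mul_of_nonneg_left b1 (Int.natCast_nonneg m),
        mul_le_mul_of_nonneg_left hmz (Int.natCast_nonneg m)]
    exact_mod_cast hge
  exact Module.nontrivial_of_finrank_pos (R := k) hpos

end Groth.Agent.GrLib8.JetCount
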